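import Mathlib
import Groth.Agent.Lib.Helper24.Lang.Hom

/-!
# Naturality of the absolute `q`-Frobenius of a (not necessarily affine) scheme over a finite field
-/

set_option autoImplicit false
universe u

open CategoryTheory AlgebraicGeometry Limits

namespace Groth.Agent.Lib.Helper24.FrobFix

open Groth.Agent.Lib.Helper24.Lang

variable {k : Type u} [Field k] [Finite k]

section

variable {X : Scheme.{u}} (FX : X ⟶ X) (hle : ∀ U : X.Opens, U ≤ FX ⁻¹ᵁ U)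
  (hFapp : ∀ (U : X.Opens) (s : Γ(X, U)), (FX.appLE U U (hle U)).hom s = s ^ Nat.card k)

include hFapp in
theorem isFrob_resLE (V : X.Opens) : IsFrob (Nat.card k) (FX.resLE V V (hle V)) := by
  intro s
  have e : (FX.resLE V V (hle V)).appTop = V.topIso.hom ≫ FX.appLE V V (hle V) ≫ V.topIso.inv :=
    Scheme.Hom.resLE_app_top ..
  rw [e, CommRingCat.comp_apply, CommRingCat.comp_apply]
  erw [hFapp]
  rw [map_pow]
  congr 1
  exact V.topIso.hom_inv_id_apply s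

include hFapp in
theorem comp_frob_eq_aux {T : Scheme.{u}} [IsAffine T] (t : T ⟶ Spec (CommRingCat.of k))
    (FT : T ⟶ T) (hFT : IsFrob (Nat.card k) FT) (x : T ⟶ X) (V : X.Opens) (hV : IsAffineOpen V)
    (W : T.Opens) (hW : IsAffineOpen W) (hWV : W ≤ x ⁻¹ᵁ V) : W.ι ≫ x ≫ FX = W.ι ≫ FT ≫ x := by
  haveI : IsAffine V.toScheme := hV
  haveI : IsAffine W.toScheme := hW
  obtain ⟨FW, hFW⟩ := exists_isFrob (k := k) W.toScheme (W.ι ≫ t)
  have h1 : W.ι ≫ x = x.resLE V W hWV ≫ V.ι := (Scheme.Hom.resLE_comp_ι x hWV).symm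
  have h2 : FX.resLE V V (hle V) ≫ V.ι = V.ι ≫ FX := Scheme.Hom.resLE_comp_ι FX (hle V)
  have h3 : x.resLE V W hWV ≫ FX.resLE V V (hle V) = FW ≫ x.resLE V W hWV :=
    IsFrob.comp_eq hFW (isFrob_resLE FX hle hFapp V) _
  have h4 : W.ι ≫ FT = FW ≫ W.ι := IsFrob.comp_eq hFW hFT _
  calc W.ι ≫ x ≫ FX = x.resLE V W hWV ≫ V.ι ≫ FX := by rw [← Category.assoc, h1, Category.assoc]
    _ = (x.resLE V W hWV ≫ FX.resLE V V (hle V)) ≫ V.ι := by rw [← h2, Category.assoc]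
    _ = FW ≫ W.ι ≫ x := by rw [h3, Category.assoc, h1]
    _ = W.ι ≫ FT ≫ x := by rw [← Category.assoc, ← h4, Category.assoc]

include hFapp in
/-- the Frobenius of `X` commutes with every morphism from an affine scheme over `k` -/
theorem comp_frob_eq {T : Scheme.{u}} [IsAffine T] (t : T ⟶ Spec (CommRingCat.of k)) (FT : T ⟶ T)
    (hFT : IsFrob (Nat.card k) FT) (x : T ⟶ X) : x ≫ FX = FT ≫ x := by
  refine Scheme.hom_ext_of_forall _ _ fun p ↦ ?_
  obtain ⟨_, ⟨V, hV, rfl⟩, hxV, -⟩ :=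
    X.isBasis_affineOpens.exists_subset_of_mem_open (Set.mem_univ (x p)) isOpen_univ
  obtain ⟨_, ⟨W, hW, rfl⟩, hpW, hWV : W ≤ x ⁻¹ᵁ V⟩ :=
    T.isBasis_affineOpens.exists_subset_of_mem_open hxV (x ⁻¹ᵁ V).isOpen
  exact ⟨W, hpW, comp_frob_eq_aux FX hle hFapp t FT hFT x V hV W hW hWV⟩

end

end Groth.Agent.Lib.Helper24.FrobFix
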