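import Mathlib
import Groth.Prelude.Def_FinFr
import Groth.Agent.Lib.Helper24.FrobFix.Natural
import Groth.Agent.Lib.Helper24.Lang.Frob

/-!
# The fixed point scheme of the Frobenius of `X ×_k K` is unramified over `K`
-/

set_option autoImplicit false
universe u

open CategoryTheory AlgebraicGeometry Limits

namespace Groth.Agent.Lib.Helper24.FrobFix

open Groth.Agent.Lib.Helper24.Lang

section Fix

variable {k : Type u} [Field k] {X : Scheme.{u}} (p : X ⟶ Spec (CommRingCat.of k)) (F : X ⟶ X)
  (hF : F ≫ p = p)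

/-- the graph of `F` -/
noncomputable abbrev graphF : X ⟶ pullback p p := pullback.lift (𝟙 X) F (by rw [hF, Category.id_comp])

/-- the diagonal -/
noncomputable abbrev diagF : X ⟶ pullback p p := pullback.lift (𝟙 X) (𝟙 X) rfl

/-- the inclusion of the fixed point scheme -/
noncomputable def fixι : FinFr.fixScheme p F hF ⟶ X := pullback.fst (graphF p F hF) (diagF p)

theorem fixι_comp : fixι p F hF ≫ F = fixι p F hF := by
  have h := pullback.condition (f := graphF p F hF) (g := diagF p)
  have h1 := congr($h ≫ pullback.fst p p)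
  have h2 := congr($h ≫ pullback.snd p p)
  simp only [Category.assoc, pullback.lift_fst, pullback.lift_snd, Category.comp_id] at h1 h2
  exact h2.trans h1.symm

instance : IsImmersion (fixι p F hF) := by
  haveI : IsImmersion (diagF p) := inferInstanceAs (IsImmersion (pullback.diagonal p))
  exact inferInstanceAs (IsImmersion (pullback.fst (graphF p F hF) (diagF p)))

instance : Mono (fixι p F hF) := by
  haveI : Mono (diagF p) := mono_of_mono_fac (pullback.lift_fst _ _ _)
  exact inferInstanceAs (Mono (pullback.fst (graphF p F hF) (diagF p)))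

end Fix

variable {k : Type u} [Field k] [Finite k] {X : Scheme.{u}} (f : X ⟶ Spec (CommRingCat.of k))
  (FX : X ⟶ X) (hle : ∀ U : X.Opens, U ≤ FX ⁻¹ᵁ U)
  (hFapp : ∀ (U : X.Opens) (s : Γ(X, U)), (FX.appLE U U (hle U)).hom s = s ^ Nat.card k)
  (K : Type u) [Field K] [Algebra k K]
  (F : FinFr.ext K f ⟶ FinFr.ext K f)
  (hF1 : F ≫ FinFr.extπ K f = FinFr.extπ K f ≫ FX)
  (hF2 : F ≫ FinFr.extStr K f = FinFr.extStr K f)

include hFapp hF1 in
theorem formallyUnramified_fix :
    FormallyUnramified (fixι (FinFr.extStr K f) F hF2 ≫ FinFr.extStr K f) := by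
  refine FormallyUnramified.of_hom_ext _ ?_
  intro R S φ hsurj hker g₁ g₂ h12 hstr
  obtain ⟨p, n, hp, hn, hq, hpk⟩ := exists_prime_pow k
  let i := fixι (FinFr.extStr K f) F hF2
  let t : Spec R ⟶ Spec (CommRingCat.of k) := g₁ ≫ i ≫ FinFr.extStr K f ≫ FinFr.specι k K
  have hR : (p : R) = 0 := by
    have h1 : (p : Γ(Spec R, ⊤)) = 0 := natCast_eq_zero_of_over t hpk
    have h2 : (Scheme.ΓSpecIso R).hom.hom (p : Γ(Spec R, ⊤)) = (p : R) := map_natCast _ p
    rw [← h2, h1, map_zero]
  let ψ' : S ⟶ R := CommRingCat.ofHom (frobQuot hp n hn φ.hom hsurj hR hker)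
  have hψ1 : φ ≫ ψ' = CommRingCat.ofHom (powHom hp n R hR) :=
    CommRingCat.hom_ext (frobQuot_comp hp n hn φ.hom hsurj hR hker)
  have hFR : IsFrob (Nat.card k) (Spec.map (CommRingCat.ofHom (powHom hp n R hR))) :=
    isFrob_specMap _ fun r => by rw [hq]; rfl
  -- the two points of `X`
  have key : ∀ g : Spec R ⟶ FinFr.fixScheme (FinFr.extStr K f) F hF2,
      g ≫ i ≫ FinFr.extπ K f = Spec.map ψ' ≫ Spec.map φ ≫ g ≫ i ≫ FinFr.extπ K f := by
    intro g
    have e1 : (g ≫ i ≫ FinFr.extπ K f) ≫ FX = g ≫ i ≫ FinFr.extπ K f := by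
      rw [Category.assoc, Category.assoc, ← hF1, ← Category.assoc i, fixι_comp]
    have e2 := comp_frob_eq FX hle hFapp t _ hFR (g ≫ i ≫ FinFr.extπ K f)
    rw [e1, ← hψ1, Spec.map_comp, Category.assoc] at e2
    exact e2
  rw [← cancel_mono i]
  apply pullback.hom_ext
  · show (g₁ ≫ i) ≫ FinFr.extπ K f = (g₂ ≫ i) ≫ FinFr.extπ K f
    rw [Category.assoc, Category.assoc, key g₁, key g₂, ← Category.assoc (Spec.map φ) g₁,
      ← Category.assoc (Spec.map φ) g₂, h12]
  · show (g₁ ≫ i) ≫ FinFr.extStr K f = (g₂ ≫ i) ≫ FinFr.extStr K f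
    rw [Category.assoc, Category.assoc]
    exact hstr

end Groth.Agent.Lib.Helper24.FrobFix

namespace Groth.Agent.Lib.Helper24.FrobFix

section Unramified

variable {Z : Scheme.{u}} (K : Type u) [Field K] (g : Z ⟶ Spec (CommRingCat.of K))
  [FormallyUnramified g] [LocallyOfFiniteType g]

include K g

theorem isReduced_and_finite_of_spec (R : CommRingCat.{u}) (j : Spec R ⟶ Z) [IsOpenImmersion j] :
    _root_.IsReduced R ∧ Finite (Spec R) := by
  obtain ⟨φ, hφ⟩ := Spec.map_surjective (j ≫ g)
  haveI : FormallyUnramified j := FormallyUnramified.of_hom_ext _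
    fun R S φ _ _ g₁ g₂ _ h => (cancel_mono j).1 h
  have h1 : FormallyUnramified (Spec.map φ) :=
    hφ ▸ MorphismProperty.comp_mem @FormallyUnramified _ _ ‹_› ‹_›
  have h2 : LocallyOfFiniteType (Spec.map φ) := hφ ▸ inferInstance
  rw [HasRingHomProperty.Spec_iff (P := @FormallyUnramified)] at h1
  rw [HasRingHomProperty.Spec_iff (P := @LocallyOfFiniteType)] at h2
  algebraize [φ.hom]
  haveI : Algebra.EssFiniteType K R := inferInstance
  refine ⟨Algebra.FormallyUnramified.isReduced_of_field K R, ?_⟩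
  haveI : Module.Finite K R := Algebra.FormallyUnramified.finite_of_free K R
  haveI : IsArtinianRing R := isArtinian_of_tower K inferInstance
  exact inferInstanceAs (Finite (PrimeSpectrum R))

theorem isReduced_of_formallyUnramified : IsReduced Z := by
  have key : ∀ i : Z.affineOpenCover.I₀, IsReduced (Spec (Z.affineOpenCover.X i)) := by
    intro i
    haveI := (isReduced_and_finite_of_spec K g (Z.affineOpenCover.X i) (Z.affineOpenCover.f i)).1
    infer_instance
  haveI : ∀ i, IsReduced (Z.affineCover.X i) := fun i => key i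
  exact IsReduced.of_openCover Z Z.affineCover

theorem finite_of_formallyUnramified [CompactSpace Z] : Finite Z := by
  let 𝒰 := Z.affineCover.finiteSubcover
  haveI : Finite 𝒰.I₀ := inferInstance
  have hcov : (⋃ i, Set.range (𝒰.f i)) = Set.univ := 𝒰.iUnion_range
  rw [← Set.finite_univ_iff, ← hcov]
  refine Set.finite_iUnion fun i => ?_
  have key : ∀ i : Z.affineOpenCover.I₀, Finite (Spec (Z.affineOpenCover.X i)) := fun i =>
    (isReduced_and_finite_of_spec K g (Z.affineOpenCover.X i) (Z.affineOpenCover.f i)).2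
  haveI : Finite (𝒰.X i) := key (Z.affineCover.idx i.1)
  exact Set.finite_range _

end Unramified

end Groth.Agent.Lib.Helper24.FrobFix

namespace Groth.Agent.Lib.Helper24.FrobFix

variable {k : Type u} [Field k] [Finite k] {X : Scheme.{u}} (f : X ⟶ Spec (CommRingCat.of k))
  (FX : X ⟶ X) (hle : ∀ U : X.Opens, U ≤ FX ⁻¹ᵁ U)
  (hFapp : ∀ (U : X.Opens) (s : Γ(X, U)), (FX.appLE U U (hle U)).hom s = s ^ Nat.card k)
  (K : Type u) [Field K] [Algebra k K]
  (F : FinFr.ext K f ⟶ FinFr.ext K f)
  (hF1 : F ≫ FinFr.extπ K f = FinFr.extπ K f ≫ FX)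
  (hF2 : F ≫ FinFr.extStr K f = FinFr.extStr K f)

include hFapp hF1 in
theorem isReduced_fixScheme [LocallyOfFiniteType f] :
    IsReduced (FinFr.fixScheme (FinFr.extStr K f) F hF2) := by
  haveI := formallyUnramified_fix f FX hle hFapp K F hF1 hF2
  haveI : LocallyOfFiniteType (FinFr.extStr K f) :=
    inferInstanceAs (LocallyOfFiniteType (pullback.snd f (FinFr.specι k K)))
  exact isReduced_of_formallyUnramified K (fixι (FinFr.extStr K f) F hF2 ≫ FinFr.extStr K f)

include hFapp hF1 in
theorem finite_fixScheme [LocallyOfFiniteType f] [QuasiCompact f] :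
    Finite (FinFr.fixScheme (FinFr.extStr K f) F hF2) := by
  haveI := formallyUnramified_fix f FX hle hFapp K F hF1 hF2
  haveI : LocallyOfFiniteType (FinFr.extStr K f) :=
    inferInstanceAs (LocallyOfFiniteType (pullback.snd f (FinFr.specι k K)))
  haveI : QuasiCompact (FinFr.extStr K f) :=
    inferInstanceAs (QuasiCompact (pullback.snd f (FinFr.specι k K)))
  haveI : IsLocallyNoetherian (FinFr.ext K f) :=
    LocallyOfFiniteType.isLocallyNoetherian (FinFr.extStr K f)
  haveI : CompactSpace (FinFr.ext K f) :=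
    QuasiCompact.compactSpace_of_compactSpace (FinFr.extStr K f)
  haveI : IsNoetherian (FinFr.ext K f) := ⟨⟩
  haveI : TopologicalSpace.NoetherianSpace (FinFr.fixScheme (FinFr.extStr K f) F hF2) :=
    (fixι (FinFr.extStr K f) F hF2).isEmbedding.isInducing.noetherianSpace
  haveI : CompactSpace (FinFr.fixScheme (FinFr.extStr K f) F hF2) := TopologicalSpace.NoetherianSpace.compactSpace _
  exact finite_of_formallyUnramified K (fixι (FinFr.extStr K f) F hF2 ≫ FinFr.extStr K f)

end Groth.Agent.Lib.Helper24.FrobFix
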